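import Mathlib
import Groth.Prelude.Def_EGA4Misc
import Groth.Agent.Hensel.NormRed
import Groth.Agent.UnibranchEtale.BirationalScheme
import Groth.Agent.EtaPt.UnivHomeo
import Groth.Agent.S9812

/-!
The geometrically unibranch locus is constructible when the normalisation is finite.
-/

set_option autoImplicit false
set_option linter.style.haveILetI false

universe u

open CategoryTheory Limits AlgebraicGeometry Topology CAlg2 Set.Notation

namespace Groth.Agent.ConsUnibranch

set_option backward.isDefEq.respectTransparency false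

/-! ### The radicial locus -/

section Radicial

variable {X Y : Scheme.{u}} (f : X ⟶ Y)

/-- Two field valued points with the same image over a radicial point agree. -/
theorem eq_of_isRadicialAt {y : Y} (h : RadPt.IsRadicialAt f y) (K : Type u) [Field K]
    (g₁ g₂ : Spec (.of K) ⟶ X) (hg : g₁ ≫ f = g₂ ≫ f)
    (hy : f (g₁ (IsLocalRing.closedPoint K)) = y) : g₁ = g₂ := by
  obtain ⟨h_inj, hf⟩ := h
  have hy' : f (g₂ (IsLocalRing.closedPoint K)) = y := by
    rw [← Scheme.Hom.comp_apply, ← hg, Scheme.Hom.comp_apply]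
    exact hy
  obtain ⟨e, h⟩ := Scheme.SpecToEquivOfField_eq_iff.mp congr((Y.SpecToEquivOfField K) $(hg))
  apply (X.SpecToEquivOfField K).injective
  simp only [Scheme.SpecToEquivOfField_apply_fst, Scheme.SpecToEquivOfField_apply_snd] at e h
  simp only [Scheme.descResidueField_stalkClosedPointTo_comp] at e h
  have he := h_inj _ _ hy hy'
  rw [← f.residueFieldMap_congr'_assoc he, CommRingCat.hom_ext_iff] at h
  rw [Scheme.SpecToEquivOfField_eq_iff]
  let x := g₁ (IsLocalRing.closedPoint K)
  have hfx := hf x hy
  algebraize [(f.residueFieldMap (g₁ (IsLocalRing.closedPoint K))).hom]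
  refine ⟨he, CommRingCat.hom_ext ?_⟩
  exact IsPurelyInseparable.injective_comp_algebraMap
    (Y.residueField (f x)) (X.residueField x) _ h

/-- Radicial at `y` means that the diagonal covers all the points over `y`. -/
theorem isRadicialAt_iff_diagonal (y : Y) :
    RadPt.IsRadicialAt f y ↔ ∀ z : ↥(pullback f f), (pullback.fst f f ≫ f) z = y →
      z ∈ Set.range (pullback.diagonal f) := by
  constructor
  · intro h z hz
    let φ := (pullback f f).fromSpecResidueField z
    have hpt : ∀ w, φ w = z := fun w => by simp [φ]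
    have hφ₁ : φ ≫ pullback.fst f f = φ ≫ pullback.snd f f :=
      eq_of_isRadicialAt f h ((pullback f f).residueField z) _ _ (by simp [pullback.condition]) (by
        exact (congrArg (fun w => f (pullback.fst f f w)) (hpt _)).trans hz)
    have hφ₂ : φ = (φ ≫ pullback.fst f f) ≫ pullback.diagonal f := by
      apply pullback.hom_ext
      · simp
      · rw [Category.assoc, Category.assoc, pullback.diagonal_snd, Category.comp_id, hφ₁]
    refine ⟨(φ ≫ pullback.fst f f) (IsLocalRing.closedPoint _), ?_⟩
    rw [← Scheme.Hom.comp_apply, ← hφ₂, hpt]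
  · intro hd
    have hinj : ∀ x x' : X, f x = y → f x' = y → x = x' := by
      intro x x' hx hx'
      obtain ⟨z, h1, h2⟩ := Scheme.Pullback.exists_preimage_pullback x x' (hx.trans hx'.symm)
      obtain ⟨u, rfl⟩ := hd z (by rw [Scheme.Hom.comp_apply, h1, hx])
      rw [← Scheme.Hom.comp_apply, pullback.diagonal_fst] at h1
      rw [← Scheme.Hom.comp_apply, pullback.diagonal_snd] at h2
      exact h1.symm.trans h2
    refine ⟨hinj, fun x hx => ?_⟩
    algebraize [(f.residueFieldMap x).hom]
    rw [RingHom.IsPurelyInseparable, isPurelyInseparable_iff_subsingleton_emb, subsingleton_iff]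
    intro σ₁ σ₂
    apply AlgHom.coe_ringHom_injective
    let g₁ := (X.SpecToEquivOfField _).symm ⟨_, CommRingCat.ofHom σ₁.toRingHom⟩
    let g₂ := (X.SpecToEquivOfField _).symm ⟨_, CommRingCat.ofHom σ₂.toRingHom⟩
    suffices X.SpecToEquivOfField _ g₁ = X.SpecToEquivOfField _ g₂ by
      rw [Equiv.apply_symm_apply, Equiv.apply_symm_apply] at this
      exact congr($(this).2.hom)
    let q := pullback.lift (f := f) (g := f) g₁ g₂ <| by
      simp only [g₁, g₂, Scheme.SpecToEquivOfField_symm_apply, AlgHom.toRingHom_eq_coe,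
        Category.assoc, ← f.SpecMap_residueFieldMap_fromSpecResidueField x, ← Spec.map_comp_assoc]
      congr 2
      ext a
      simp only [CommRingCat.hom_comp, RingHom.comp_apply]
      exact (AlgHom.commutes σ₁ a).trans (AlgHom.commutes σ₂ a).symm
    have q_fst : q ≫ pullback.fst f f = g₁ := pullback.lift_fst _ _ _
    have q_snd : q ≫ pullback.snd f f = g₂ := pullback.lift_snd _ _ _
    rw [Scheme.SpecToEquivOfField_eq_iff, ← q_fst, ← q_snd]
    obtain ⟨u, hu⟩ := hd (q (IsLocalRing.closedPoint _)) (by
      rw [← Scheme.Hom.comp_apply, ← Category.assoc, q_fst, Scheme.Hom.comp_apply]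
      simpa [g₁, Scheme.SpecToEquivOfField_symm_apply] using hx)
    have hux : u = x := by
      have := congr(pullback.fst f f $(hu))
      rw [← Scheme.Hom.comp_apply, ← Scheme.Hom.comp_apply] at this
      simpa [Scheme.SpecToEquivOfField_symm_apply, q_fst, g₁] using this
    refine ⟨by simp [g₁, g₂, q_fst, q_snd], ?_⟩
    simp only [Scheme.SpecToEquivOfField_apply_snd]
    simp only [Scheme.descResidueField_stalkClosedPointTo_comp, ← Category.assoc]
    congr 1
    rw [← cancel_mono (Scheme.residueFieldCongr (hux ▸ hu).symm).hom]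
    have : Mono (Scheme.Hom.residueFieldMap (pullback.diagonal f) x) :=
      ConcreteCategory.mono_of_injective _ (RingHom.injective _)
    simp [← cancel_mono ((pullback.diagonal f).residueFieldMap x), ← Scheme.residueFieldMap_comp,
      (pullback.fst f f).residueFieldMap_congr', (pullback.snd f f).residueFieldMap_congr'_assoc,
      Scheme.Hom.residueFieldMap_congr (pullback.diagonal_snd f),
      Scheme.Hom.residueFieldMap_congr (pullback.diagonal_fst f)]

/-- The radicial locus of a separated morphism of finite type of noetherian schemes is constructible. -/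
theorem isConstructible_setOf_isRadicialAt [IsNoetherian Y] [LocallyOfFiniteType f] [QuasiCompact f]
    [IsSeparated f] : IsConstructible {y | RadPt.IsRadicialAt f y} := by
  let g : pullback f f ⟶ Y := pullback.fst f f ≫ f
  haveI : IsLocallyNoetherian (pullback f f) := LocallyOfFiniteType.isLocallyNoetherian g
  haveI : CompactSpace ↥(pullback f f) := QuasiCompact.compactSpace_of_compactSpace g
  haveI : IsNoetherian (pullback f f) := { }
  have heq : {y | RadPt.IsRadicialAt f y} = (g '' (Set.range (pullback.diagonal f))ᶜ)ᶜ := by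
    ext y
    simp only [Set.mem_ofPred_eq, Set.mem_compl_iff, Set.mem_image, not_exists, not_and,
      isRadicialAt_iff_diagonal]
    exact ⟨fun h z hz e => hz (h z e), fun h z e => by_contra fun hz => h z hz e⟩
  rw [heq]
  have ho : IsOpen (Set.range (pullback.diagonal f))ᶜ :=
    (pullback.diagonal f).isClosedEmbedding.isClosed_range.isOpen_compl
  refine (Scheme.Hom.isConstructible_image g ?_).compl
  exact (show IsRetrocompact (Set.range (pullback.diagonal f))ᶜ from fun U _ _ =>
    TopologicalSpace.NoetherianSpace.isCompact _).isConstructible ho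

end Radicial

/-! ### The normalisation -/

/-- Being geometrically unibranch does not depend on the model of the localisation. -/
theorem gu_iff_of_isLocalization {A : Type u} [CommRing A] (p : Ideal A) [p.IsPrime]
    (L L' : Type u) [CommRing L] [Algebra A L] [IsLocalization.AtPrime L p] [IsLocalRing L]
    [CommRing L'] [Algebra A L'] [IsLocalization.AtPrime L' p] [IsLocalRing L'] :
    IsGeomUnibranch L ↔ IsGeomUnibranch L' := by
  constructor
  · intro h
    obtain ⟨p₀, h0, hle, hmin, hG⟩ := Unibranch.exists_guAt_of_isGeomUnibranch p L h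
    exact Unibranch.isGeomUnibranch_of_guAt p p₀ L' hle hmin fun _ => hG
  · intro h
    obtain ⟨p₀, h0, hle, hmin, hG⟩ := Unibranch.exists_guAt_of_isGeomUnibranch p L' h
    exact Unibranch.isGeomUnibranch_of_guAt p p₀ L hle hmin fun _ => hG

theorem gu_stalk_iff {A : Type u} [CommRing A] (q : ↥(Spec (CommRingCat.of A))) :
    IsGeomUnibranch ((Spec (CommRingCat.of A)).presheaf.stalk q) ↔
      IsGeomUnibranch (Localization.AtPrime (PrimeSpectrum.asIdeal (R := A) q)) := by
  letI : Algebra A ((Spec (CommRingCat.of A)).presheaf.stalk q) :=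
    StructureSheaf.stalkAlgebra A q
  haveI : IsLocalization.AtPrime ((Spec (CommRingCat.of A)).presheaf.stalk q)
      (PrimeSpectrum.asIdeal (R := A) q) :=
    StructureSheaf.IsLocalization.to_stalk A q
  exact gu_iff_of_isLocalization (PrimeSpectrum.asIdeal (R := A) q) _ _

theorem mem_genericPoints_spec {A : Type u} [CommRing A] (q : ↥(Spec (CommRingCat.of A))) :
    q ∈ genericPoints ↥(Spec (CommRingCat.of A)) ↔
      PrimeSpectrum.asIdeal (R := A) q ∈ minimalPrimes A := by
  constructor
  · intro h
    refine ⟨⟨q.isPrime, bot_le⟩, fun J hJ hle => ?_⟩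
    have h1 := UnibranchEtale.maximal_of_mem_genericPoints h ⟨J, hJ.1⟩
      ((PrimeSpectrum.le_iff_specializes (R := A) ⟨J, hJ.1⟩ q).1 hle)
    exact (congrArg PrimeSpectrum.asIdeal h1).ge
  · intro h
    obtain ⟨η, hη, hgen⟩ := UnibranchEtale.exists_maximal_specializes q
    have hle : PrimeSpectrum.asIdeal (R := A) η ≤ PrimeSpectrum.asIdeal (R := A) q :=
      (PrimeSpectrum.le_iff_specializes (R := A) η q).2 hη
    have : η = q := PrimeSpectrum.ext (le_antisymm hle (h.2 ⟨η.isPrime, bot_le⟩ hle))
    exact this ▸ hgen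

/-- A generisation of a point with a normal local ring is geometrically unibranch. -/
theorem gu_atPrime_of_le {R : Type u} [CommRing R] (M Q : Ideal R) [M.IsPrime] [Q.IsPrime] (hQM : Q ≤ M)
    (S : Type u) [CommRing S] [Algebra R S] [IsLocalization.AtPrime S M] [IsDomain S]
    [IsIntegrallyClosed S] : IsGeomUnibranch (Localization.AtPrime Q) := by
  have hdisj : Disjoint (M.primeCompl : Set R) (Q : Set R) :=
    Set.disjoint_left.2 fun x hx hxQ => hx (hQM hxQ)
  haveI hqp : (Q.map (algebraMap R S)).IsPrime :=
    IsLocalization.isPrime_of_isPrime_disjoint M.primeCompl S Q ‹_› hdisj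
  set q := Q.map (algebraMap R S) with hq
  have hT : IsLocalization.AtPrime (Localization.AtPrime q) (q.comap (algebraMap R S)) :=
    IsLocalization.isLocalization_isLocalization_atPrime_isLocalization M.primeCompl _ q
  have hcomap : q.comap (algebraMap R S) = Q :=
    IsLocalization.under_map_of_isPrime_disjoint M.primeCompl S ‹_› hdisj
  haveI : IsLocalization.AtPrime (Localization.AtPrime q) Q := by
    revert hT
    simp only [hcomap]
    exact id
  haveI : IsDomain (Localization.AtPrime q) :=
    IsLocalization.isDomain_of_le_nonZeroDivisors _ (Ideal.primeCompl_le_nonZeroDivisors q)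
  haveI : IsIntegrallyClosed (Localization.AtPrime q) :=
    isIntegrallyClosed_of_isLocalization _ q.primeCompl (Ideal.primeCompl_le_nonZeroDivisors q)
  exact (gu_iff_of_isLocalization Q (Localization.AtPrime q) (Localization.AtPrime Q)).1
    (Groth.Agent.S9812.result _)

theorem normal_atPrime (A : Type u) [CommRing A] (hfin : (minimalPrimes A).Finite)
    (Q : Ideal (normRed A)) [Q.IsPrime] : IsGeomUnibranch (Localization.AtPrime Q) := by
  obtain ⟨M, hM, hQM⟩ := Q.exists_le_maximal (Ideal.IsPrime.ne_top ‹_›)
  obtain ⟨hd, hic⟩ := Hensel.normal_atPrime_normRed A hfin M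
  exact gu_atPrime_of_le M Q hQM (Localization.AtPrime M)

theorem isBirational_normalisation (A : Type u) [CommRing A] (hfin : (minimalPrimes A).Finite) :
    RadPt.IsBirational (Spec.map (CommRingCat.ofHom (algebraMap A (normRed A)))) := by
  set f := Spec.map (CommRingCat.ofHom (algebraMap A (normRed A))) with hf
  have hmaps : Set.MapsTo f (genericPoints ↥(Spec (CommRingCat.of (normRed A))))
      (genericPoints ↥(Spec (CommRingCat.of A))) := fun Q hQ =>
    (mem_genericPoints_spec _).2 (Hensel.comap_minimalPrimes_normRed A hfin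
      ((mem_genericPoints_spec Q).1 hQ))
  have huniq : ∀ p ∈ genericPoints ↥(Spec (CommRingCat.of A)), ∀ Q Q', f Q = p → f Q' = p → Q = Q' := by
    intro p hp Q Q' hQ hQ'
    obtain ⟨Q₀, -, h⟩ := Hensel.existsUnique_prime_over_minimal A ((mem_genericPoints_spec p).1 hp)
    exact PrimeSpectrum.ext ((h _ ⟨Q.isPrime, congrArg PrimeSpectrum.asIdeal hQ⟩).trans
      (h _ ⟨Q'.isPrime, congrArg PrimeSpectrum.asIdeal hQ'⟩).symm)
  refine ⟨⟨hmaps, fun Q hQ Q' _ e => huniq _ (hmaps hQ) Q Q' rfl e.symm, fun p hp => ?_⟩,
    fun p hp => ⟨huniq p hp, fun Q hQ => ?_⟩⟩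
  · obtain ⟨Q₀, ⟨hQ₀, hQ₀p⟩, -⟩ := Hensel.existsUnique_prime_over_minimal A ((mem_genericPoints_spec p).1 hp)
    obtain ⟨η, hη, hgen⟩ := UnibranchEtale.exists_maximal_specializes
      (X := Spec (CommRingCat.of (normRed A))) ⟨Q₀, hQ₀⟩
    have hpt : f ⟨Q₀, hQ₀⟩ = p := PrimeSpectrum.ext hQ₀p
    refine ⟨η, hgen, ?_⟩
    exact UnibranchEtale.maximal_of_mem_genericPoints hp _ (hpt ▸ hη.map f.continuous)
  · subst hQ
    refine (ConcreteCategory.isIso_iff_bijective _).1
      ((EtaPtLib.bijective_residueField_map_iff _ Q).2 ⟨RingHom.injective _, ?_⟩)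
    set φ := algebraMap A (normRed A) with hφ
    set P := PrimeSpectrum.asIdeal (R := A) (PrimeSpectrum.comap φ Q) with hP
    have hmin : P ∈ minimalPrimes A := (mem_genericPoints_spec _).1 hp
    set g := Ideal.ResidueField.map P Q.asIdeal φ rfl with hg
    have hb : ∀ b : normRed A, ∃ c, g c = algebraMap (normRed A) Q.asIdeal.ResidueField b := by
      intro b
      obtain ⟨t, a, ht, hta⟩ := Hensel.exists_smul_normRed A b
      have ht0 : algebraMap A P.ResidueField t ≠ 0 := fun h =>
        ht P hmin (Ideal.algebraMap_residueField_eq_zero.1 h)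
      refine ⟨algebraMap A _ a / algebraMap A _ t, ?_⟩
      rw [map_div₀, div_eq_iff ((map_ne_zero _).2 ht0), hg, Ideal.ResidueField.map_algebraMap,
        Ideal.ResidueField.map_algebraMap, ← hta, map_mul, mul_comm]
    intro z
    obtain ⟨x, y, -, rfl⟩ := IsFractionRing.div_surjective (A := normRed A ⧸ Q.asIdeal) z
    obtain ⟨x, rfl⟩ := Ideal.Quotient.mk_surjective x
    obtain ⟨y, rfl⟩ := Ideal.Quotient.mk_surjective y
    obtain ⟨c, hc⟩ := hb x
    obtain ⟨d, hd⟩ := hb y
    exact ⟨c / d, by rw [map_div₀, hc, hd]; rfl⟩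

theorem isConstructible_spec (A : Type u) [CommRing A] [IsNoetherianRing A]
    [Module.Finite (red A) (normRed A)] :
    IsConstructible {q : ↥(Spec (CommRingCat.of A)) |
      IsGeomUnibranch ((Spec (CommRingCat.of A)).presheaf.stalk q)} := by
  haveI : Module.Finite A (red A) :=
    Module.Finite.of_surjective (Ideal.Quotient.mkₐ A (nilradical A)).toLinearMap
      Ideal.Quotient.mk_surjective
  haveI : Module.Finite A (normRed A) := Module.Finite.trans (red A) _
  set f := Spec.map (CommRingCat.ofHom (algebraMap A (normRed A))) with hf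
  haveI : IsFinite f := (IsFinite.SpecMap_iff _).2
    (RingHom.finite_algebraMap.2 inferInstance)
  have hmin : (minimalPrimes A).Finite := minimalPrimes.finite_of_isNoetherianRing A
  have hb := isBirational_normalisation A hmin
  haveI : IsNoetherian (Spec (CommRingCat.of A)) := inferInstance
  have heq : {q : ↥(Spec (CommRingCat.of A)) |
      IsGeomUnibranch ((Spec (CommRingCat.of A)).presheaf.stalk q)} = {q | RadPt.IsRadicialAt f q} :=
    Set.ext fun q => (UnibranchEtale.isGeomUnibranch_iff_isRadicialAt f hb q).trans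
      (and_iff_left fun Q _ => (gu_stalk_iff Q).2 (normal_atPrime A hmin _))
  rw [heq]
  exact isConstructible_setOf_isRadicialAt f

theorem isLocallyConstructible_gu (X : Scheme.{u}) [IsLocallyNoetherian X]
    (hfin : ∀ U : X.affineOpens, Module.Finite (red Γ(X, U.1)) (normRed Γ(X, U.1))) :
    IsLocallyConstructible {x : X | IsGeomUnibranch (X.presheaf.stalk x)} := by
  intro x
  obtain ⟨U, hU, hx, -⟩ := exists_isAffineOpen_mem_and_subset (U := ⊤) (x := x) trivial
  haveI : IsNoetherianRing Γ(X, U) := IsLocallyNoetherian.component_noetherian ⟨U, hU⟩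
  haveI : Module.Finite (red Γ(X, U)) (normRed Γ(X, U)) := hfin ⟨U, hU⟩
  let e : ↥U ≃ₜ ↥(Spec Γ(X, U)) := Scheme.homeoOfIso hU.isoSpec
  refine ⟨U, U.isOpen.mem_nhds hx, U.isOpen, ?_⟩
  have heq : ((U : Set X) ↓∩ {x : X | IsGeomUnibranch (X.presheaf.stalk x)}) =
      e ⁻¹' {q | IsGeomUnibranch ((Spec (CommRingCat.of Γ(X, U))).presheaf.stalk q)} := by
    ext ⟨y, hy⟩
    refine ((UnibranchEtale.stalk_localization U hU y hy).2).trans ?_
    exact (gu_stalk_iff (A := Γ(X, U)) (e ⟨y, hy⟩)).symm
  rw [heq]
  exact (isConstructible_spec Γ(X, U)).preimage_of_isOpenEmbedding e.isOpenEmbedding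

end Groth.Agent.ConsUnibranch
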